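import Mathlib

/-!
The 2-part of the order of a general linear group whose dimension is a power of two.
-/

set_option autoImplicit false

namespace Cfsg.Agent.KnownA.PronormalLinear

open Finset

variable {q : ℕ}

/-- the exponent of two in the order of `GL_n(q)`, `q` odd -/
def expo (q n : ℕ) : ℕ := ∑ j ∈ range n, padicValNat 2 (q ^ (j + 1) - 1)

theorem sum_pairs (f : ℕ → ℕ) : ∀ m : ℕ, ∑ j ∈ range (2 * m), f j = ∑ k ∈ range m, (f (2 * k) + f (2 * k + 1))
  | 0 => rfl
  | m + 1 => by rw [show 2 * (m + 1) = 2 * m + 1 + 1 by ring, sum_range_succ, sum_range_succ, sum_pairs f m,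
      sum_range_succ]; ring

theorem sum_val_two_pow : ∀ s : ℕ, ∑ k ∈ range (2 ^ s), padicValNat 2 (k + 1) + 1 = 2 ^ s
  | 0 => by simp
  | s + 1 => by
    have := Fact.mk Nat.prime_two
    have e : ∀ k : ℕ, padicValNat 2 (2 * k + 1) + padicValNat 2 (2 * k + 1 + 1) = 1 + padicValNat 2 (k + 1) := by
      intro k
      rw [padicValNat.eq_zero_of_not_dvd (by omega : ¬ 2 ∣ 2 * k + 1), show 2 * k + 1 + 1 = 2 * (k + 1) by ring,
        padicValNat.mul (by norm_num) (by omega), padicValNat.self (by norm_num)]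
      ring
    rw [pow_succ', sum_pairs, sum_congr rfl (fun k _ => e k), sum_add_distrib, sum_const, card_range, smul_eq_mul,
      mul_one, add_assoc, sum_val_two_pow s]
    ring

theorem val_odd (hq : 1 < q) (hodd : Odd q) (k : ℕ) :
    padicValNat 2 (q ^ (2 * k + 1) - 1) = padicValNat 2 (q - 1) := by
  have := Fact.mk Nat.prime_two
  have e : q ^ (2 * k + 1) - 1 = (q - 1) * ∑ i ∈ range (2 * k + 1), q ^ i := by
    have := geom_sum_mul_of_one_le (show 1 ≤ q by omega) (2 * k + 1)
    rw [← this, mul_comm]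
  have hs : ¬ 2 ∣ ∑ i ∈ range (2 * k + 1), q ^ i := by
    rw [Nat.dvd_iff_mod_eq_zero, sum_nat_mod, sum_congr rfl (fun i _ => (Nat.odd_iff.1 (hodd.pow (n := i)))),
      sum_const, card_range, smul_eq_mul, mul_one]
    omega
  rw [e, padicValNat.mul (by omega) (fun h => hs (by rw [h]; exact dvd_zero _)), padicValNat.eq_zero_of_not_dvd hs, add_zero]

theorem val_even (hq : 1 < q) (hodd : Odd q) (k : ℕ) :
    padicValNat 2 (q ^ (2 * k + 1 + 1) - 1) =
      padicValNat 2 (q + 1) + padicValNat 2 (q - 1) + padicValNat 2 (k + 1) := by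
  have := Fact.mk Nat.prime_two
  have h := padicValNat.pow_two_sub_one hq (by have := Nat.odd_iff.1 hodd; omega) (show 2 * (k + 1) ≠ 0 by omega)
    ⟨k + 1, two_mul _⟩
  rw [padicValNat.mul (by norm_num) (by omega), padicValNat.self (by norm_num)] at h
  rw [show 2 * k + 1 + 1 = 2 * (k + 1) by ring]
  omega

theorem expo_one : expo q 1 = padicValNat 2 (q - 1) := by simp [expo]

theorem expo_pow (hq : 1 < q) (hodd : Odd q) (s : ℕ) :
    expo q (2 ^ (s + 1)) + 1 = 2 ^ s * (2 * padicValNat 2 (q - 1) + padicValNat 2 (q + 1) + 1) := by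
  rw [expo, pow_succ', sum_pairs, sum_congr rfl (fun k _ => by rw [val_odd hq hodd, val_even hq hodd]),
    sum_add_distrib, sum_add_distrib, sum_const, sum_const, card_range, smul_eq_mul, smul_eq_mul, mul_add,
    mul_add, mul_one]
  have := sum_val_two_pow s
  linarith

theorem expo_double (hq : 1 < q) (hodd : Odd q) (s : ℕ) :
    expo q (2 ^ (s + 1 + 1)) = 2 * expo q (2 ^ (s + 1)) + 1 := by
  have h1 := expo_pow hq hodd s
  have h2 := expo_pow hq hodd (s + 1)
  rw [pow_succ' 2 s, mul_assoc, ← h1] at h2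
  omega

theorem expo_two (hq : 1 < q) (hodd : Odd q) :
    expo q 2 = 2 * padicValNat 2 (q - 1) + padicValNat 2 (q + 1) := by
  have := expo_pow hq hodd 0
  norm_num at this
  omega

theorem expo_double_zero (hq : 1 < q) (h4 : q % 4 = 1) : expo q 2 = 2 * expo q 1 + 1 := by
  have := Fact.mk Nat.prime_two
  rw [expo_two hq (Nat.odd_iff.2 (by omega)), expo_one]
  obtain ⟨j, hj⟩ : ∃ j, q + 1 = 2 * (2 * j + 1) := ⟨q / 4, by omega⟩
  rw [hj, padicValNat.mul (by norm_num) (by omega), padicValNat.self (by norm_num),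
    padicValNat.eq_zero_of_not_dvd (by omega : ¬ 2 ∣ 2 * j + 1)]

theorem card_gl {F : Type*} [Field F] [Fintype F] (hodd : Odd (Fintype.card F)) (n : ℕ) :
    padicValNat 2 (Nat.card (Matrix.GeneralLinearGroup (Fin n) F)) = expo (Fintype.card F) n := by
  have := Fact.mk Nat.prime_two
  have hq : 1 < Fintype.card F := Fintype.one_lt_card
  set q := Fintype.card F
  have e1 : ∀ i ∈ range n, q ^ n - q ^ i = q ^ i * (q ^ (n - 1 - i + 1) - 1) := by
    intro i hi
    have := mem_range.1 hi
    rw [Nat.mul_sub_one, ← pow_add, show i + (n - 1 - i + 1) = n by omega]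
  have hne : ∀ j : ℕ, q ^ (j + 1) - 1 ≠ 0 := fun j => by
    have := Nat.one_lt_pow (show j + 1 ≠ 0 by omega) hq
    omega
  have e2 := prod_range_reflect (fun i => q ^ (i + 1) - 1) n
  rw [Matrix.card_GL_field, Fin.prod_univ_eq_prod_range (fun i => q ^ n - q ^ i) n, prod_congr rfl e1,
    prod_mul_distrib, prod_pow_eq_pow_sum, e2, padicValNat.mul (pow_ne_zero _ (by omega))
      (prod_ne_zero_iff.2 fun i _ => hne i),
    padicValNat.eq_zero_of_not_dvd (by rw [← even_iff_two_dvd, Nat.not_even_iff_odd]; exact hodd.pow), zero_add]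
  clear e1 e2
  rw [expo]
  induction n with
  | zero => simp
  | succ n ih => rw [prod_range_succ, sum_range_succ, padicValNat.mul (prod_ne_zero_iff.2 fun i _ => hne i) (hne n), ih]

end Cfsg.Agent.KnownA.PronormalLinear
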